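import Mathlib

/-!
# S4346 (`n_3 ≠ 22`): the permutation-group data extracted from a counterexample

`PermData H α x`: `H` is a 2-transitive subgroup of `Perm Ω`, `|Ω| = 22`, `9 ∤ |H|`, and
`x ∈ H` has `x^3 = 1`, fixes exactly the point `α`, and is normalised up to inversion by the
point stabiliser `H_α`.
-/

set_option autoImplicit false

namespace Cfsg.Agent.Lib.Helper41.N22

/-- the data in `Perm Ω` produced by a group with exactly 22 Sylow 3-subgroups -/
structure PermData {Ω : Type*} (H : Subgroup (Equiv.Perm Ω)) (α : Ω) (x : Equiv.Perm Ω) :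
    Prop where
  card : Nat.card Ω = 22
  two : ∀ a b c d : Ω, a ≠ b → c ≠ d → ∃ h ∈ H, h a = c ∧ h b = d
  mem : x ∈ H
  cube : x ^ 3 = 1
  fix : ∀ ω : Ω, x ω = ω ↔ ω = α
  norm : ∀ h ∈ H, h α = α → h * x * h⁻¹ = x ∨ h * x * h⁻¹ = x⁻¹
  nine : ¬ 9 ∣ Nat.card H

end Cfsg.Agent.Lib.Helper41.N22
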