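import Mathlib
import Cfsg.Agent.Lib.Helper41.N22.Defs

/-!
# S4346, Part B assembly: order of `H`, one fixed point for elements of order 3 and 7,
and the Sylow 11 count
-/

set_option autoImplicit false

namespace Cfsg.Agent.Lib.Helper41.N22

variable {Ω : Type*} [Finite Ω] {H : Subgroup (Equiv.Perm Ω)} {α : Ω} {x : Equiv.Perm Ω}

theorem PermData.exists_ne (hD : PermData H α x) (a : Ω) : ∃ b : Ω, b ≠ a := by
  have h1 : 1 < Nat.card Ω := by rw [hD.card]; norm_num
  have : Nontrivial Ω := by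
    rw [← Finite.one_lt_card_iff_nontrivial]; exact h1
  exact _root_.exists_ne a

theorem PermData.isPretransitive (hD : PermData H α x) : MulAction.IsPretransitive H Ω := by
  constructor
  intro a c
  obtain ⟨b, hb⟩ := hD.exists_ne a
  obtain ⟨d, hd⟩ := hD.exists_ne c
  obtain ⟨h, hh, h1, _⟩ := hD.two a b c d hb.symm hd.symm
  exact ⟨⟨h, hh⟩, h1⟩

theorem PermData.card_eq (hD : PermData H α x) :
    Nat.card H = Nat.card (MulAction.stabilizer H α) * 22 := by
  have := hD.isPretransitive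
  have h1 := MulAction.index_stabilizer_of_transitive H α
  have h2 := (MulAction.stabilizer H α).card_mul_index
  rw [h1, hD.card] at h2
  exact h2.symm

/-- [B-ORDER] -/
theorem card_cases (hD : PermData H α x)
    (hstab : Nat.card (MulAction.stabilizer H α) ∣ 84 ∧ 21 ∣ Nat.card (MulAction.stabilizer H α)) :
    Nat.card H = 462 ∨ Nat.card H = 924 ∨ Nat.card H = 1848 := by
  rw [hD.card_eq]
  obtain ⟨h1, h2⟩ := hstab
  have hle : Nat.card (MulAction.stabilizer H α) ≤ 84 := Nat.le_of_dvd (by norm_num) h1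
  obtain ⟨k, hk⟩ := h2
  rw [hk] at h1 hle ⊢
  have hk4 : k ≤ 4 := by omega
  interval_cases k
  · simp at h1
  · left; rfl
  · right; left; rfl
  · exfalso; revert h1; decide
  · right; right; rfl

theorem PermData.x_ne_one (hD : PermData H α x) : x ≠ 1 := by
  intro h
  obtain ⟨b, hb⟩ := hD.exists_ne α
  have := (hD.fix b).mp (by rw [h]; rfl)
  exact hb this

theorem PermData.orderOf_x (hD : PermData H α x) : orderOf x = 3 :=
  orderOf_eq_prime hD.cube hD.x_ne_one

/-- [B-ONE] every element of order 3 or 7 of `H` fixes exactly one point -/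
theorem fix_unique (hD : PermData H α x)
    (hcases : Nat.card H = 462 ∨ Nat.card H = 924 ∨ Nat.card H = 1848)
    (hsylq : ∀ q : ℕ, q.Prime → ¬ q ^ 2 ∣ Nat.card H → ∀ u ∈ H, orderOf u = q → ∀ β : Ω,
      (∀ ω, u ω = ω ↔ ω = β) → ∀ w ∈ H, orderOf w = q → ∃ γ : Ω, ∀ ω, w ω = ω ↔ ω = γ)
    (hy : ∃ y ∈ H, orderOf y = 7 ∧ y * x = x * y ∧ ∀ ω : Ω, y ω = ω ↔ ω = α)
    (w : Equiv.Perm Ω) (hw : w ∈ H) (how : orderOf w = 3 ∨ orderOf w = 7) :
    ∃ γ : Ω, ∀ ω, w ω = ω ↔ ω = γ := by
  rcases how with how | how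
  · exact hsylq 3 (by norm_num) (by norm_num; exact hD.nine) x hD.mem hD.orderOf_x α hD.fix w hw how
  · obtain ⟨y, hyH, hoy, _, hyfix⟩ := hy
    have h49 : ¬ 7 ^ 2 ∣ Nat.card H := by
      rcases hcases with h | h | h <;> rw [h] <;> norm_num
    exact hsylq 7 (by norm_num) h49 y hyH hoy α hyfix w hw how

/-- arithmetic endgame -/
theorem arith_end (c n m : ℕ) (hc : c = 462 ∨ c = 924 ∨ c = 1848) (hnm : n * m = c)
    (h3 : ¬ 3 ∣ m) (h7 : ¬ 7 ∣ m) (hn : n ≡ 1 [MOD 11]) : False := by
  have h3n : 3 ∣ n := by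
    have : 3 ∣ n * m := by rw [hnm]; rcases hc with h | h | h <;> rw [h] <;> norm_num
    exact ((Nat.Prime.dvd_mul (by norm_num)).mp this).resolve_right h3
  have h7n : 7 ∣ n := by
    have : 7 ∣ n * m := by rw [hnm]; rcases hc with h | h | h <;> rw [h] <;> norm_num
    exact ((Nat.Prime.dvd_mul (by norm_num)).mp this).resolve_right h7
  have h21 : 21 ∣ n := Nat.Coprime.mul_dvd_of_dvd_of_dvd (by norm_num) h3n h7n
  have hn1848 : n ∣ 1848 := by
    have h1 : n ∣ c := ⟨m, hnm.symm⟩
    rcases hc with h | h | h <;> rw [h] at h1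
    · exact h1.trans (by norm_num)
    · exact h1.trans (by norm_num)
    · exact h1
  obtain ⟨k, rfl⟩ := h21
  have hk : k ∣ 88 := by
    have : 21 * k ∣ 21 * 88 := by simpa using hn1848
    exact (Nat.mul_dvd_mul_iff_left (by norm_num)).mp this
  have hk88 : k ≤ 88 := Nat.le_of_dvd (by norm_num) hk
  have hmod : (21 * k) % 11 = 1 := hn
  interval_cases k <;> omega


/-- [B-SYL11] -/
theorem false_of_cases (hcases : Nat.card H = 462 ∨ Nat.card H = 924 ∨ Nat.card H = 1848)
    (hnc : ∀ g w : Equiv.Perm Ω, g ∈ H → w ∈ H → orderOf g = 11 →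
      (orderOf w = 3 ∨ orderOf w = 7) → w * g * w⁻¹ ∈ Subgroup.zpowers g → False) : False := by
  haveI : Fact (Nat.Prime 11) := ⟨by norm_num⟩
  haveI : Finite H := inferInstance
  have h11 : 11 ∣ Nat.card H := by rcases hcases with h | h | h <;> rw [h] <;> norm_num
  have h121 : ¬ 11 ^ 2 ∣ Nat.card H := by rcases hcases with h | h | h <;> rw [h] <;> norm_num
  obtain ⟨R⟩ : Nonempty (Sylow 11 H) := inferInstance
  -- |R| = 11
  have hRcard : Nat.card R = 11 := by
    obtain ⟨k, hk⟩ := R.2.exists_card_eq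
    have hd1 : 11 ∣ Nat.card R := R.dvd_card_of_dvd_card h11
    have hd2 : Nat.card R ∣ Nat.card H := Subgroup.card_subgroup_dvd_card _
    rw [hk] at hd1 hd2 ⊢
    have hk1 : k ≠ 0 := by
      rintro rfl
      simp at hd1
    have hk2 : k < 2 := by
      by_contra hge
      push Not at hge
      exact h121 ((pow_dvd_pow 11 hge).trans hd2)
    have : k = 1 := by omega
    rw [this, pow_one]
  haveI : IsCyclic R := isCyclic_of_prime_card hRcard
  obtain ⟨g, hg⟩ := IsCyclic.exists_generator (α := R)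
  have hog : orderOf g = 11 := by
    rw [orderOf_eq_card_of_forall_mem_zpowers hg, hRcard]
  -- generator as a permutation
  have hRz : ∀ r : H, r ∈ (R : Subgroup H) → ((r : H) : Equiv.Perm Ω) ∈
      Subgroup.zpowers (((g : R) : H) : Equiv.Perm Ω) := by
    intro r hr
    obtain ⟨k, hk⟩ := hg ⟨r, hr⟩
    refine ⟨k, ?_⟩
    have := congrArg (fun z : R => (((z : R) : H) : Equiv.Perm Ω)) hk
    simpa using this
  have hog' : orderOf ((((g : R) : H) : Equiv.Perm Ω)) = 11 := by
    rw [Subgroup.orderOf_coe, Subgroup.orderOf_coe, hog]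
  set N := Subgroup.normalizer ((R : Subgroup H) : Set H) with hN
  have hq : ∀ q : ℕ, q.Prime → (q = 3 ∨ q = 7) → ¬ q ∣ Nat.card N := by
    intro q hqp hq37 hdvd
    haveI : Fact q.Prime := ⟨hqp⟩
    obtain ⟨w, hw⟩ := exists_prime_orderOf_dvd_card' q hdvd
    have how : orderOf (((w : N) : H) : Equiv.Perm Ω) = q := by
      rw [Subgroup.orderOf_coe, Subgroup.orderOf_coe, hw]
    have hmem : ((w : N) : H) * ((g : R) : H) * ((w : N) : H)⁻¹ ∈ (R : Subgroup H) := by
      have := Subgroup.mem_normalizer_iff.mp w.2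
      exact (this _).mp g.2
    have := hRz _ hmem
    refine hnc _ _ (((g : R) : H)).2 (((w : N) : H)).2 hog' ?_ (by simpa using this)
    rcases hq37 with rfl | rfl
    · left; exact how
    · right; exact how
  have hidx : Nat.card (Sylow 11 H) = N.index := Sylow.card_eq_index_normalizer R
  have hmod : Nat.card (Sylow 11 H) ≡ 1 [MOD 11] := card_sylow_modEq_one 11 H
  have hmul : N.index * Nat.card N = Nat.card H := by
    rw [mul_comm]; exact N.card_mul_index
  rw [hidx] at hmod
  exact arith_end _ _ _ hcases hmul (hq 3 (by norm_num) (Or.inl rfl))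
    (hq 7 (by norm_num) (Or.inr rfl)) hmod

end Cfsg.Agent.Lib.Helper41.N22
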