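import Mathlib
import Cfsg.Agent.Lib.Helper41.N22.Defs
import Cfsg.Agent.Lib.Helper41.N22.PartB
import Cfsg.Agent.Lib.Helper11.N22C42Cyc
import Cfsg.Agent.Lib.Helper11.N22C42Ker
import Cfsg.Agent.Lib.Helper73.N22C42Trans
import Cfsg.Agent.Lib.Helper77.N22BY
import Cfsg.Agent.Lib.Helper77.N22T7

/-!
# S4346, [C42-MAIN]: the centraliser of `x` in `H` has order dividing 42
-/

set_option autoImplicit false

namespace Cfsg.Agent.Lib.Helper41.N22

open Equiv.Perm.OnCycleFactors in
/-- [C42-MAIN], with the module results as hypotheses -/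
theorem card_centralizer_dvd_aux {Ω : Type*} [Fintype Ω] [DecidableEq Ω]
    {H : Subgroup (Equiv.Perm Ω)} {α : Ω} {x : Equiv.Perm Ω} (hD : PermData H α x)
    (hker : IsPGroup 3 (Equiv.Perm.OnCycleFactors.toPermHom x).ker)
    (htrans : ∀ (T : Subgroup (Equiv.Perm x.cycleFactorsFinset)) (t : Equiv.Perm x.cycleFactorsFinset),
      t ∈ T → orderOf t = 7 → MulAction.IsPretransitive T x.cycleFactorsFinset)
    (hT7 : ∀ (T : Subgroup (Equiv.Perm x.cycleFactorsFinset)),
      MulAction.IsPretransitive T x.cycleFactorsFinset → ¬ 3 ∣ Nat.card T → Nat.card T ∣ 14)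
    (hy : ∃ y ∈ H, orderOf y = 7 ∧ y * x = x * y ∧ ∀ ω : Ω, y ω = ω ↔ ω = α) :
    Nat.card (H ⊓ Subgroup.centralizer {x} : Subgroup (Equiv.Perm Ω)) ∣ 42 := by
  set C := Subgroup.centralizer ({x} : Set (Equiv.Perm Ω)) with hC
  set φ := Equiv.Perm.OnCycleFactors.toPermHom x with hφ
  set HC : Subgroup C := H.subgroupOf C with hHC
  have hHCcard : Nat.card HC = Nat.card (H ⊓ C : Subgroup (Equiv.Perm Ω)) := by
    rw [hHC, ← Subgroup.inf_subgroupOf_right]
    exact Nat.card_congr (Subgroup.subgroupOfEquivOfLe inf_le_right).toEquiv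
  set ψ : HC →* Equiv.Perm x.cycleFactorsFinset := φ.comp HC.subtype with hψ
  -- the kernel is a 3-group
  have hkerψ : IsPGroup 3 ψ.ker := by
    have : ψ.ker = φ.ker.comap HC.subtype := (MonoidHom.comap_ker φ HC.subtype)
    rw [this, Subgroup.comap_subtype]
    exact hker.comap_subtype
  -- `HC` embeds in `H`
  let ι : HC →* H :=
    { toFun := fun k => ⟨((k : C) : Equiv.Perm Ω), k.2⟩
      map_one' := rfl
      map_mul' := fun _ _ => rfl }
  have hι : Function.Injective ι := by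
    intro a b hab
    have := congrArg (fun z : H => (z : Equiv.Perm Ω)) hab
    exact Subtype.ext (Subtype.ext this)
  have hHCdvd : Nat.card HC ∣ Nat.card H := Subgroup.card_dvd_of_injective ι hι
  have hsplit : Nat.card ψ.ker * Nat.card ψ.range = Nat.card HC := by
    rw [← Subgroup.index_ker]; exact ψ.ker.card_mul_index
  -- the kernel has order dividing 3
  have hker3 : Nat.card ψ.ker ∣ 3 := by
    obtain ⟨k, hk⟩ := hkerψ.exists_card_eq
    have hd : Nat.card ψ.ker ∣ Nat.card H :=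
      (Dvd.intro _ hsplit).trans hHCdvd
    rw [hk] at hd ⊢
    have : k < 2 := by
      by_contra hge
      push Not at hge
      exact hD.nine ((pow_dvd_pow 3 hge).trans hd)
    interval_cases k <;> norm_num
  -- `x` lies in the kernel
  have hxC : x ∈ C := by
    rw [hC, Subgroup.mem_centralizer_singleton_iff]
  let xx : HC := ⟨⟨x, hxC⟩, hD.mem⟩
  have hxxker : xx ∈ ψ.ker := by
    rw [MonoidHom.mem_ker]
    show φ ⟨x, hxC⟩ = 1
    rw [← MonoidHom.mem_ker, hφ, Equiv.Perm.OnCycleFactors.mem_ker_toPermHom_iff]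
    intro c hc
    exact (Equiv.Perm.self_mem_cycle_factors_commute hc).symm
  have hxx1 : xx ≠ 1 := by
    intro h
    have := congrArg (fun z : HC => ((z : C) : Equiv.Perm Ω)) h
    exact hD.x_ne_one this
  have hkercard : Nat.card ψ.ker = 3 := by
    have h1 : Nat.card ψ.ker ≠ 1 := by
      intro h1
      have hsub : Subsingleton ψ.ker := (Nat.card_eq_one_iff_unique.mp h1).1
      have : (⟨xx, hxxker⟩ : ψ.ker) = 1 := Subsingleton.elim _ _
      exact hxx1 (congrArg Subtype.val this)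
    have := (Nat.dvd_prime (by norm_num : Nat.Prime 3)).mp hker3
    tauto
  -- the image
  set T := ψ.range with hT
  have hT3 : ¬ 3 ∣ Nat.card T := by
    rintro ⟨m, hm⟩
    apply hD.nine
    rw [hkercard, hm] at hsplit
    exact (Dvd.intro m (by rw [← hsplit]; ring)).trans hHCdvd
  -- transitivity from `y`
  obtain ⟨y, hyH, hoy, hyx, -⟩ := hy
  have hyC : y ∈ C := by
    rw [hC, Subgroup.mem_centralizer_singleton_iff]; exact hyx
  let yy : HC := ⟨⟨y, hyC⟩, hyH⟩
  have hoyy : orderOf yy = 7 := by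
    have : orderOf (((yy : HC) : C) : Equiv.Perm Ω) = 7 := hoy
    rwa [Subgroup.orderOf_coe, Subgroup.orderOf_coe] at this
  have hψy : orderOf (ψ yy) = 7 := by
    have hdvd : orderOf (ψ yy) ∣ 7 := by
      rw [← hoyy]; exact orderOf_map_dvd ψ yy
    rcases (Nat.dvd_prime (by norm_num : Nat.Prime 7)).mp hdvd with h | h
    · exfalso
      rw [orderOf_eq_one_iff] at h
      have hmem : yy ∈ ψ.ker := h
      have h3 : orderOf (⟨yy, hmem⟩ : ψ.ker) ∣ 3 := by
        rw [← hkercard]; exact orderOf_dvd_natCard _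
      have h7 : orderOf (⟨yy, hmem⟩ : ψ.ker) = 7 := by
        rw [← hoyy, ← Subgroup.orderOf_coe]
      rw [h7] at h3
      norm_num at h3
    · exact h
  have hTtrans : MulAction.IsPretransitive T x.cycleFactorsFinset :=
    htrans T (ψ yy) ⟨yy, rfl⟩ hψy
  have hT14 := hT7 T hTtrans hT3
  rw [← hHCcard, ← hsplit, hkercard]
  exact (Nat.mul_dvd_mul_left 3 hT14)

/-- [C42-MAIN] -/
theorem card_centralizer_dvd {Ω : Type*} [Finite Ω] {H : Subgroup (Equiv.Perm Ω)} {α : Ω}
    {x : Equiv.Perm Ω} (hD : PermData H α x) :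
    Nat.card (H ⊓ Subgroup.centralizer {x} : Subgroup (Equiv.Perm Ω)) ∣ 42 := by
  classical
  haveI : Fintype Ω := Fintype.ofFinite Ω
  have hΩ : Fintype.card Ω = 22 := by rw [← Nat.card_eq_fintype_card, hD.card]
  obtain ⟨_, hcyc⟩ := Cfsg.Agent.Lib.Helper11.N22.cycleType_eq hΩ x α hD.cube hD.fix
  have hX : Fintype.card x.cycleFactorsFinset = 7 := by rw [Fintype.card_coe, hcyc]
  exact card_centralizer_dvd_aux hD (Cfsg.Agent.Lib.Helper11.N22.isPGroup_ker_toPermHom x α hD.cube hD.fix)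
    (fun T t ht hot => Cfsg.Agent.Lib.Helper73.N22.isPretransitive_of_order_seven hX T t ht hot)
    (fun T hT h3 => by haveI := hT; exact Cfsg.Agent.Lib.Helper77.N22.card_dvd_fourteen hX T h3)
    (Cfsg.Agent.Lib.Helper77.N22.exists_seven hD)

end Cfsg.Agent.Lib.Helper41.N22
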