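import Mathlib
import Cfsg.Agent.Lib.Helper41.N22.Defs
import Cfsg.Agent.Lib.Helper41.N22.PartB

set_option autoImplicit false

namespace Cfsg.Agent.Lib.Helper41.N22

variable {Ω : Type*} [Finite Ω] {H : Subgroup (Equiv.Perm Ω)} {α : Ω} {x : Equiv.Perm Ω}

/-- the point stabiliser is transitive on the other 21 points, so `21 ∣ |H_α|` -/
theorem PermData.dvd_card_stabilizer (hD : PermData H α x) :
    21 ∣ Nat.card (MulAction.stabilizer H α) := by
  obtain ⟨β, hβ⟩ := hD.exists_ne α
  have horb : MulAction.orbit (MulAction.stabilizer H α) β = {α}ᶜ := by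
    ext γ
    simp only [Set.mem_compl_iff, Set.mem_singleton_iff]
    constructor
    · rintro ⟨⟨h, hh⟩, rfl⟩ heq
      apply hβ
      have h1 : h • α = α := hh
      have : h • β = h • α := by rw [h1]; exact heq
      exact smul_left_cancel h this
    · intro hγ
      obtain ⟨h, hhH, h1, h2⟩ := hD.two α β α γ hβ.symm (Ne.symm hγ)
      refine ⟨⟨⟨h, hhH⟩, ?_⟩, h2⟩
      exact h1
  have hcard : (MulAction.orbit (MulAction.stabilizer H α) β).ncard = 21 := by
    rw [horb, Set.ncard_compl, hD.card, Set.ncard_singleton]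
  have h1 := MulAction.index_stabilizer (MulAction.stabilizer H α) β
  rw [hcard] at h1
  rw [← h1]
  exact Subgroup.index_dvd_card _

theorem PermData.x_ne_inv (hD : PermData H α x) : x ≠ x⁻¹ := by
  intro h
  have h2 : x ^ 2 = 1 := by
    rw [pow_two]; nth_rewrite 2 [h]; exact mul_inv_cancel x
  have : x = 1 := by
    have h3 := hD.cube
    rw [pow_succ, h2, one_mul] at h3
    exact h3
  exact hD.x_ne_one this

/-- [B-STAB] -/
theorem card_stabilizer_dvd (hD : PermData H α x)
    (h42 : Nat.card (H ⊓ Subgroup.centralizer {x} : Subgroup (Equiv.Perm Ω)) ∣ 42) :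
    Nat.card (MulAction.stabilizer H α) ∣ 84 ∧ 21 ∣ Nat.card (MulAction.stabilizer H α) := by
  refine ⟨?_, hD.dvd_card_stabilizer⟩
  set S := MulAction.stabilizer H α with hS
  set C : Subgroup H := (Subgroup.centralizer {x}).subgroupOf H with hC
  have hCcard : Nat.card C = Nat.card (H ⊓ Subgroup.centralizer {x} : Subgroup (Equiv.Perm Ω)) := by
    rw [hC, ← Subgroup.inf_subgroupOf_left]
    exact Nat.card_congr (Subgroup.subgroupOfEquivOfLe inf_le_left).toEquiv
  have hmemC : ∀ h : H, h ∈ C ↔ (h : Equiv.Perm Ω) * x * (h : Equiv.Perm Ω)⁻¹ = x := by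
    intro h
    rw [hC, Subgroup.mem_subgroupOf, Subgroup.mem_centralizer_singleton_iff]
    constructor
    · intro hc
      rw [hc, mul_inv_cancel_right]
    · intro hc
      rw [mul_inv_eq_iff_eq_mul] at hc
      exact hc
  have hCS : C ≤ S := by
    intro h hh
    rw [hmemC] at hh
    rw [hS, MulAction.mem_stabilizer_iff]
    apply (hD.fix _).mp
    have := congrArg (fun σ : Equiv.Perm Ω => σ ((h : Equiv.Perm Ω) α)) hh
    simp only [Equiv.Perm.coe_mul, Function.comp_apply] at this
    show x ((h : Equiv.Perm Ω) α) = (h : Equiv.Perm Ω) α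
    rw [← this]
    have e1 : ((h : Equiv.Perm Ω))⁻¹ ((h : Equiv.Perm Ω) α) = α := by simp
    rw [e1, (hD.fix α).mpr rfl]
  have hrel : C.relIndex S = 1 ∨ C.relIndex S = 2 := by
    by_cases hle : S ≤ C
    · left; exact Subgroup.relIndex_eq_one.mpr hle
    · right
      rw [Subgroup.relIndex_eq_two_iff]
      obtain ⟨a, haS, haC⟩ := SetLike.not_le_iff_exists.mp hle
      have hcase : ∀ b ∈ S, b ∉ C → (b : Equiv.Perm Ω) * x * (b : Equiv.Perm Ω)⁻¹ = x⁻¹ := by
        intro b hbS hbC
        rcases hD.norm b b.2 hbS with h | h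
        · exact absurd ((hmemC b).mpr h) hbC
        · exact h
      have ha := hcase a haS haC
      refine ⟨a, haS, fun b hbS => ?_⟩
      have hba : ((b * a : H) : Equiv.Perm Ω) * x * ((b * a : H) : Equiv.Perm Ω)⁻¹ =
          ((b : Equiv.Perm Ω) * x * (b : Equiv.Perm Ω)⁻¹)⁻¹ := by
        have : ((b * a : H) : Equiv.Perm Ω) * x * ((b * a : H) : Equiv.Perm Ω)⁻¹ =
            (b : Equiv.Perm Ω) * ((a : Equiv.Perm Ω) * x * (a : Equiv.Perm Ω)⁻¹) *
              (b : Equiv.Perm Ω)⁻¹ := by
          push_cast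
          group
        rw [this, ha]
        group
      by_cases hbC : b ∈ C
      · refine Or.inr ⟨hbC, ?_⟩
        rw [hmemC, hba, (hmemC b).mp hbC]
        exact fun h => hD.x_ne_inv h.symm
      · refine Or.inl ⟨?_, hbC⟩
        rw [hmemC, hba, hcase b hbS hbC, inv_inv]
  have hcardS : Nat.card S = C.relIndex S * Nat.card C := by
    have h1 := (C.subgroupOf S).card_mul_index
    have h2 : Nat.card (C.subgroupOf S) = Nat.card C :=
      Nat.card_congr (Subgroup.subgroupOfEquivOfLe hCS).toEquiv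
    rw [h2] at h1
    rw [← h1, Subgroup.relIndex, mul_comm]
  rw [hcardS, hCcard]
  rcases hrel with h | h <;> rw [h]
  · rw [one_mul]; exact h42.trans (by norm_num)
  · exact (Nat.mul_dvd_mul_left 2 h42)

end Cfsg.Agent.Lib.Helper41.N22
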