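import Mathlib
import Cfsg.Agent.Lib.Helper41.N22.Defs

set_option autoImplicit false

namespace Cfsg.Agent.Lib.Helper41.N22

/-- [A-TRANSFER] assembly, with the module results as hypotheses -/
theorem exists_permData_aux {G : Type*} [Group G] [Finite G] (h22 : Nat.card (Sylow 3 G) = 22)
    (h2t : ∀ P Q P' Q' : Sylow 3 G, P ≠ Q → P' ≠ Q' → ∃ g : G, g • P = P' ∧ g • Q = Q')
    (hcore : ∀ P Q R : Sylow 3 G, P ≠ Q → (P : Subgroup G) ⊓ (Q : Subgroup G) ≤ (R : Subgroup G))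
    (hfix : ∀ (P Q : Sylow 3 G), P ≠ Q → ∀ p₀ : G, p₀ ∈ P → p₀ ∉ Q → ∀ R : Sylow 3 G,
      (p₀ • R = R ↔ R = P))
    (hcube : ∀ (P Q : Sylow 3 G), P ≠ Q → ∀ p₀ : G, p₀ ∈ P →
      p₀ ^ 3 ∈ (P : Subgroup G) ⊓ (Q : Subgroup G))
    (hnorm : ∀ (P Q : Sylow 3 G), P ≠ Q → ∀ p₀ : G, p₀ ∈ P → p₀ ∉ Q → ∀ g : G, g • P = P →
      ∃ d ∈ (P : Subgroup G) ⊓ (Q : Subgroup G),
        g * p₀ * g⁻¹ = p₀ * d ∨ g * p₀ * g⁻¹ = p₀⁻¹ * d)
    (hnine : ∀ (P Q : Sylow 3 G), P ≠ Q →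
      ¬ 9 ∣ Nat.card (MulAction.toPermHom G (Sylow 3 G)).range) :
    ∃ (H : Subgroup (Equiv.Perm (Sylow 3 G))) (α : Sylow 3 G) (x : Equiv.Perm (Sylow 3 G)),
      PermData H α x := by
  -- two distinct Sylow subgroups
  have h1 : 1 < Nat.card (Sylow 3 G) := by rw [h22]; norm_num
  haveI : Nontrivial (Sylow 3 G) := by
    rw [← Finite.one_lt_card_iff_nontrivial]; exact h1
  obtain ⟨P, Q, hPQ⟩ := exists_pair_ne (Sylow 3 G)
  -- an element of `P` outside `Q`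
  have hnle : ¬ (P : Subgroup G) ≤ (Q : Subgroup G) := by
    intro hle
    apply hPQ
    exact Sylow.ext (P.is_maximal' Q.2 hle).symm
  obtain ⟨p₀, hp₀P, hp₀Q⟩ := SetLike.not_le_iff_exists.mp hnle
  set ρ := MulAction.toPermHom G (Sylow 3 G) with hρ
  have hρapp : ∀ (g : G) (R : Sylow 3 G), ρ g R = g • R := fun g R => rfl
  -- elements of `P ⊓ Q` act trivially
  have htriv : ∀ d ∈ (P : Subgroup G) ⊓ (Q : Subgroup G), ρ d = 1 := by
    intro d hd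
    refine Equiv.ext fun R => ?_
    rw [hρapp, Equiv.Perm.coe_one, id_eq]
    have hdR : d ∈ (R : Subgroup G) := hcore P Q R hPQ hd
    rw [Sylow.smul_eq_iff_mem_normalizer]
    exact Subgroup.le_normalizer hdR
  refine ⟨ρ.range, P, ρ p₀, ?_⟩
  refine
    { card := h22
      two := ?_
      mem := ⟨p₀, rfl⟩
      cube := ?_
      fix := ?_
      norm := ?_
      nine := hnine P Q hPQ }
  · intro a b c d hab hcd
    obtain ⟨g, hg1, hg2⟩ := h2t a b c d hab hcd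
    exact ⟨ρ g, ⟨g, rfl⟩, hg1, hg2⟩
  · rw [← map_pow]
    exact htriv _ (hcube P Q hPQ p₀ hp₀P)
  · intro R
    rw [hρapp]
    exact hfix P Q hPQ p₀ hp₀P hp₀Q R
  · rintro h ⟨g, rfl⟩ hg
    rw [hρapp] at hg
    obtain ⟨d, hd, h | h⟩ := hnorm P Q hPQ p₀ hp₀P hp₀Q g hg
    · left
      rw [← map_inv, ← map_mul, ← map_mul, h, map_mul, htriv d hd, mul_one]
    · right
      rw [← map_inv, ← map_mul, ← map_mul, h, map_mul, htriv d hd, mul_one, map_inv]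

end Cfsg.Agent.Lib.Helper41.N22
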