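import Mathlib
import Cfsg.Agent.S0720

/-!
# S4346: a primitive group of degree 22 is 2-transitive; 2-transitivity on `Sylow 3 G`
-/

set_option autoImplicit false

namespace Cfsg.Agent.Lib.Helper41.N22

/-- [W22] a primitive permutation group of degree `22 = 2 * 11` is doubly transitive
(Wielandt: the rank 3 alternative needs `11 = 2a² + 2a + 1`) -/
theorem two_pretransitive_of_card_22 {β : Type*} [Fintype β] [DecidableEq β]
    (hβ : Fintype.card β = 22) (K : Subgroup (Equiv.Perm β)) (hK : MulAction.IsPreprimitive K β) :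
    MulAction.IsMultiplyPretransitive K β 2 := by
  have hne : Nonempty β := by
    rw [← Fintype.card_pos_iff, hβ]; norm_num
  obtain ⟨a₀⟩ := hne
  rcases Cfsg.Agent.S0720.result (p := 11) (by norm_num) (by rw [hβ]) K hK a₀ with
    h | ⟨_, a, ha, h11, _⟩
  · exact h
  · exfalso
    have h2 : a ≤ 2 := by nlinarith
    interval_cases a <;> omega

/-- [A-2T] a primitive action on 22 Sylow 3-subgroups is 2-transitive, in elementary form -/
theorem two_trans {G : Type*} [Group G] [Finite G] (h22 : Nat.card (Sylow 3 G) = 22)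
    (hprim : MulAction.IsPreprimitive G (Sylow 3 G)) :
    ∀ P Q P' Q' : Sylow 3 G, P ≠ Q → P' ≠ Q' → ∃ g : G, g • P = P' ∧ g • Q = Q' := by
  classical
  haveI : Fintype (Sylow 3 G) := Fintype.ofFinite _
  have hcard : Fintype.card (Sylow 3 G) = 22 := by rw [← Nat.card_eq_fintype_card, h22]
  set ρ := MulAction.toPermHom G (Sylow 3 G) with hρ
  set K : Subgroup (Equiv.Perm (Sylow 3 G)) := ρ.range with hK
  -- the identity map is equivariant along `G → K`
  let φ : G → K := ρ.rangeRestrict
  have hφ : Function.Surjective φ := ρ.rangeRestrict_surjective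
  let f : Sylow 3 G →ₑ[φ] Sylow 3 G :=
    { toFun := id
      map_smul' := fun g P => rfl }
  have hf : Function.Surjective f := fun P => ⟨P, rfl⟩
  have hKprim : MulAction.IsPreprimitive K (Sylow 3 G) :=
    MulAction.IsPreprimitive.of_surjective (f := f) hf
  have h2 := two_pretransitive_of_card_22 hcard K hKprim
  rw [MulAction.is_two_pretransitive_iff] at h2
  intro P Q P' Q' hPQ hPQ'
  obtain ⟨⟨k, g, rfl⟩, hk1, hk2⟩ := h2 hPQ hPQ'
  exact ⟨g, hk1, hk2⟩

end Cfsg.Agent.Lib.Helper41.N22
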